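import Cfsg.Agent.H74.CycInt.Unitary
import Cfsg.Agent.H58.CI.Fusion
import Cfsg.Agent.Coprime.J1.ByOrder.Main
import Cfsg.Agent.S0276
import Cfsg.Agent.S2126
import Cfsg.Agent.S4593

/-!
# A normal simple subgroup with a unique Sylow 2-subgroup over each of its own has odd index

For the simple groups `L₂(2ⁿ)`, `L₂(q)` with `q ≡ 3, 5 (mod 8)`, `Sz`, `U₃(2ⁿ)` and `J₁`, an
automorphism of `2`-power order normalising a Sylow `2`-subgroup `P` and trivial on `N(P) / P` is
inner. Hence, if `L` is such a normal subgroup with trivial centralizer and distinct Sylow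
`2`-subgroups of the whole group meet `L` differently, then `L` has odd index.
-/

set_option autoImplicit false
set_option linter.style.haveILetI false
set_option linter.unusedSectionVars false

namespace Cfsg.Agent.H74.CycInt

open Subgroup
open scoped Pointwise commutatorElement

universe u

local instance : Fact (Nat.Prime 2) := ⟨Nat.prime_two⟩

/-- Automorphisms of `2`-power order trivial on a Sylow normaliser modulo the Sylow subgroup are
inner. -/
def InnerTwoHyp (L : Type*) [Group L] : Prop :=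
  ∀ (P : Sylow 2 L) (α : MulAut L) (k : ℕ), α ^ 2 ^ k = 1 →
    (P : Subgroup L).map α.toMonoidHom = P →
    (∀ n ∈ normalizer ((P : Subgroup L) : Set L), α n * n⁻¹ ∈ (P : Subgroup L)) →
    α ∈ Cfsg.Inn L

theorem innerTwoHyp_congr {L M : Type*} [Group L] [Group M] [Finite L] (e : L ≃* M)
    (h : InnerTwoHyp M) : InnerTwoHyp L := by
  intro P α k hk hP hN
  haveI : Finite M := Finite.of_equiv L e.toEquiv
  set P' := P.mapSurjective (f := e.toMonoidHom) e.surjective with hP'
  have hc : (P' : Subgroup M) = (P : Subgroup L).map e.toMonoidHom := Sylow.coe_mapSurjective _ _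
  obtain ⟨g, hg⟩ := h P' (MulAut.congr e α) k (by rw [← map_pow, hk, map_one]) (by
    rw [hc, map_map]
    conv_rhs => rw [← hP, map_map]
    congr 1
    ext x
    show e (α (e.symm (e x))) = e (α x)
    rw [e.symm_apply_apply]) (fun n hn => by
    rw [hc, ← map_equiv_normalizer_eq] at hn
    obtain ⟨n₀, hn₀, rfl⟩ := hn
    rw [hc]
    refine ⟨_, hN n₀ hn₀, ?_⟩
    show e (α n₀ * n₀⁻¹) = e (α (e.symm (e n₀))) * (e n₀)⁻¹
    rw [e.symm_apply_apply, map_mul, map_inv])
  refine ⟨e.symm g, MulEquiv.ext fun x => ?_⟩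
  have h1 : g * e x * g⁻¹ = e (α (e.symm (e x))) := DFunLike.congr_fun hg (e x)
  rw [e.symm_apply_apply] at h1
  apply e.injective
  rw [MulAut.conj_apply, map_mul, map_mul, map_inv, e.apply_symm_apply]
  exact h1

/-- **Sylow 2-subgroups elementary abelian, small or with one class of involutions.** -/
theorem innerTwoHyp_of_elementary {L : Type*} [Group L] [Finite L] [IsSimpleGroup L]
    (hna : ¬ IsMulCommutative L)
    (hP : ∀ P : Sylow 2 L, (∀ p ∈ (P : Subgroup L), p * p = 1) ∧ 2 ≤ Nat.card (P : Subgroup L) ∧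
      (Nat.card (P : Subgroup L) ≤ 8 ∨
        ∀ a b : L, orderOf a = 2 → orderOf b = 2 → IsConj a b)) : InnerTwoHyp L := by
  intro P α k hk hαP hαN
  obtain ⟨hsq, h2, hcases⟩ := hP P
  have hinv : ∀ p ∈ (P : Subgroup L), p⁻¹ = p := fun p hp => inv_eq_of_mul_eq_one_right (hsq p hp)
  have hab : ∀ a ∈ (P : Subgroup L), ∀ b ∈ (P : Subgroup L), a * b = b * a := fun a ha b hb => by
    rw [← hinv _ (mul_mem ha hb), mul_inv_rev, hinv a ha, hinv b hb]
  haveI hcomm : IsMulCommutative ↥(P : Subgroup L) :=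
    ⟨⟨fun a b => Subtype.ext (hab a a.2 b b.2)⟩⟩
  have hmem : ∀ x ∈ (P : Subgroup L), α x ∈ (P : Subgroup L) := fun x hx =>
    hαP.le ⟨x, hx, rfl⟩
  -- the action commutes with that of the normaliser
  have hequiv : ∀ n ∈ normalizer ((P : Subgroup L) : Set L), ∀ x ∈ (P : Subgroup L),
      α (n * x * n⁻¹) = n * α x * n⁻¹ := by
    intro n hn x hx
    have hp := hαN n hn
    have hy : n * α x * n⁻¹ ∈ (P : Subgroup L) := (mem_normalizer_iff.mp hn _).mp (hmem x hx)
    calc α (n * x * n⁻¹) = α n * n⁻¹ * (n * α x * n⁻¹) * (α n * n⁻¹)⁻¹ := by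
          rw [map_mul, map_mul, map_inv]; group
      _ = n * α x * n⁻¹ := by rw [hab _ hp _ hy, mul_inv_cancel_right]
  let φ : L → L := fun x => α x * x
  have hφmem : ∀ x ∈ (P : Subgroup L), φ x ∈ (P : Subgroup L) := fun x hx => mul_mem (hmem x hx) hx
  have hφconj : ∀ n ∈ normalizer ((P : Subgroup L) : Set L), ∀ x ∈ (P : Subgroup L),
      φ (n * x * n⁻¹) = n * φ x * n⁻¹ := by
    intro n hn x hx
    show α (n * x * n⁻¹) * (n * x * n⁻¹) = n * (α x * x) * n⁻¹
    rw [hequiv n hn x hx]; group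
  have hφmul : ∀ x ∈ (P : Subgroup L), ∀ y ∈ (P : Subgroup L), φ (x * y) = φ x * φ y := by
    intro x hx y hy
    show α (x * y) * (x * y) = α x * x * (α y * y)
    rw [map_mul, mul_assoc (α x) (α y), mul_assoc (α x) x, ← mul_assoc (α y), ← mul_assoc x,
      hab _ (hmem y hy) _ hx]
  have hfixφ : ∀ x ∈ (P : Subgroup L), (α x = x ↔ φ x = 1) := by
    intro x hx
    show α x = x ↔ α x * x = 1
    rw [mul_eq_one_iff_eq_inv, hinv x hx]
  have hiter : ∀ j : ℕ, ∀ x ∈ (P : Subgroup L), φ^[2 ^ j] x = (α ^ 2 ^ j) x * x := by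
    intro j
    induction j with
    | zero => intro x _; rw [pow_zero, pow_one, Function.iterate_one]
    | succ j ih =>
      intro x hx
      have hmem' : (α ^ 2 ^ j) x ∈ (P : Subgroup L) := by
        generalize 2 ^ j = m
        induction m with
        | zero => rw [pow_zero]; exact hx
        | succ m ihm => rw [pow_succ', MulAut.mul_apply]; exact hmem _ ihm
      rw [pow_succ, mul_two, Function.iterate_add_apply, ih x hx, ih _ (mul_mem hmem' hx), map_mul,
        pow_add, MulAut.mul_apply, mul_assoc, ← mul_assoc ((α ^ 2 ^ j) x), hsq _ hmem', one_mul]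
  -- some involution of `P` is fixed
  have hex : ∀ x ∈ (P : Subgroup L), x ≠ 1 → ∃ y ∈ (P : Subgroup L), y ≠ 1 ∧ α y = y := by
    intro x hx hx1
    classical
    have hm : ∃ m, φ^[m] x = 1 := ⟨2 ^ k, by rw [hiter k x hx, hk, MulAut.one_apply, hsq x hx]⟩
    have hitmem : ∀ m, φ^[m] x ∈ (P : Subgroup L) := by
      intro m
      induction m with
      | zero => exact hx
      | succ m ihm => rw [Function.iterate_succ_apply']; exact hφmem _ ihm
    obtain ⟨m, hm'⟩ := Nat.exists_eq_add_one_of_ne_zero (n := Nat.find hm) fun e => hx1 (by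
      have := Nat.find_spec hm
      rwa [e, Function.iterate_zero_apply] at this)
    refine ⟨φ^[m] x, hitmem m, Nat.find_min hm (by omega), (hfixφ _ (hitmem m)).mpr ?_⟩
    have := Nat.find_spec hm
    rwa [hm', Function.iterate_succ_apply'] at this
  have hperf : commutator L = ⊤ :=
    ((inferInstance : (commutator L).Normal).eq_bot_or_eq_top).resolve_left fun e => hna
      ⟨⟨fun a b => by
        have h1 : ⁅a, b⁆ ∈ commutator L := commutator_mem_commutator (mem_top a) (mem_top b)
        rw [e, mem_bot] at h1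
        exact commutatorElement_eq_one_iff_mul_comm.mp h1⟩⟩
  have hfix : ∀ x ∈ (P : Subgroup L), α x = x := by
    intro x hx
    by_cases hx1 : x = 1
    · rw [hx1, map_one]
    obtain ⟨y, hy, hy1, hyfix⟩ := hex x hx hx1
    by_contra hne
    rcases hcases with h8 | hone
    · -- the kernel or the image of `φ` has order two
      let ψ : ↥(P : Subgroup L) →* ↥(P : Subgroup L) :=
        MonoidHom.mk' (fun z => ⟨φ z, hφmem z z.2⟩) fun a b => Subtype.ext (hφmul a a.2 b b.2)
      have hker : ∀ {z : ↥(P : Subgroup L)}, z ∈ ψ.ker ↔ α (z : L) = z := fun {z} => by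
        rw [MonoidHom.mem_ker, Subtype.ext_iff]
        exact (hfixφ z z.2).symm
      by_cases hidx : ψ.ker.index = 2
      · -- a unique nontrivial value
        have hw : φ x ≠ 1 := fun e => hne ((hfixφ x hx).mpr e)
        refine hw (Coprime.J1.ByOrder.eq_one_of_fixed hperf P hab (hφmem x hx) fun n hn => ?_)
        have hnx : n * x * n⁻¹ ∈ (P : Subgroup L) := (mem_normalizer_iff.mp hn x).mp hx
        have hnot : α (n * x * n⁻¹) ≠ n * x * n⁻¹ := fun e => hne (by
          rw [hequiv n hn x hx] at e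
          exact mul_left_cancel (mul_right_cancel e))
        have h1 : (⟨n * x * n⁻¹, hnx⟩ * ⟨x, hx⟩ : ↥(P : Subgroup L)) ∈ ψ.ker :=
          (mul_mem_iff_of_index_two hidx).mpr (iff_of_false (fun e => hnot (hker.mp e))
            fun e => hne (hker.mp e))
        have h2 : φ (n * x * n⁻¹) * φ x = 1 := by
          rw [← hφmul _ hnx _ hx]
          exact (hfixφ _ (mul_mem hnx hx)).mp (hker.mp h1)
        rw [hφconj n hn x hx, mul_eq_one_iff_eq_inv, hinv _ (hφmem x hx),
          mul_inv_eq_iff_eq_mul] at h2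
        exact h2
      · -- a unique fixed involution
        refine hy1 (Coprime.J1.ByOrder.eq_one_of_fixed hperf P hab hy fun n hn => ?_)
        have hny : n * y * n⁻¹ ∈ (P : Subgroup L) := (mem_normalizer_iff.mp hn y).mp hy
        have hnfix : α (n * y * n⁻¹) = n * y * n⁻¹ := by rw [hequiv n hn y hy, hyfix]
        have hk2 : Nat.card ψ.ker ≤ 2 := by
          have h1 := ψ.ker.card_mul_index
          obtain ⟨i, hi⟩ := IsPGroup.iff_card.mp P.isPGroup'
          obtain ⟨j, -, hj⟩ := (Nat.dvd_prime_pow Nat.prime_two).mp (hi ▸ ψ.ker.index_dvd_card)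
          have hne1 : ψ.ker.index ≠ 1 := fun e => hne (hker (z := ⟨x, hx⟩) |>.mp
            ((index_eq_one.mp e).symm ▸ mem_top _))
          have h4 : 4 ≤ ψ.ker.index := by
            rw [hj] at hne1 hidx ⊢
            rcases j with _ | _ | j
            · exact absurd rfl hne1
            · exact absurd (pow_one 2) hidx
            · calc (4 : ℕ) = 2 ^ 2 := rfl
                _ ≤ _ := Nat.pow_le_pow_right two_pos (by omega)
          nlinarith [Nat.card_pos (α := ↥ψ.ker)]
        by_contra hmove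
        have hny' : n * y * n⁻¹ ≠ y := fun e => hmove (mul_inv_eq_iff_eq_mul.mp e)
        have h3 : ({1, ⟨y, hy⟩, ⟨n * y * n⁻¹, hny⟩} : Set ↥(P : Subgroup L)) ⊆ ψ.ker := by
          rintro z (rfl | rfl | rfl)
          · exact one_mem _
          · exact hker.mpr hyfix
          · exact hker.mpr hnfix
        have h4 := Set.ncard_le_ncard h3 (Set.toFinite _)
        have n1 : (1 : ↥(P : Subgroup L)) ≠ ⟨y, hy⟩ := fun e => hy1 (congrArg Subtype.val e).symm
        have n2 : (1 : ↥(P : Subgroup L)) ≠ ⟨n * y * n⁻¹, hny⟩ := fun e =>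
          hy1 (conj_eq_one_iff.mp (congrArg Subtype.val e).symm)
        have n3 : (⟨y, hy⟩ : ↥(P : Subgroup L)) ≠ ⟨n * y * n⁻¹, hny⟩ := fun e =>
          hny' (congrArg Subtype.val e).symm
        rw [Set.ncard_insert_of_notMem (by simp [n1, n2]), Set.ncard_pair n3] at h4
        exact absurd (h4.trans hk2) (by norm_num)
    · -- the normaliser is transitive on the involutions
      have hord : ∀ z ∈ (P : Subgroup L), z ≠ 1 → orderOf z = 2 := fun z hz hz1 =>
        orderOf_eq_prime (by rw [pow_two]; exact hsq z hz) hz1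
      obtain ⟨c, hc⟩ := isConj_iff.1 (hone y x (hord y hy hy1) (hord x hx hx1))
      have hle : (P : Subgroup L) ≤ centralizer ((P : Subgroup L) : Set L) :=
        le_centralizer_iff_isMulCommutative.mpr hcomm
      obtain ⟨n, hn, hnc⟩ := Fusion.burnside_fusion_centralizer P (hle hy) (g := c) (hle (hc ▸ hx))
      rw [hc] at hnc
      exact hne (by rw [← hnc, hequiv n hn y hy, hyfix])
  -- trivial centre and no odd normal subgroup
  have hZ : center L = ⊥ :=
    ((inferInstance : (center L).Normal).eq_bot_or_eq_top).resolve_right fun e => hna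
      ⟨⟨fun a b => mem_center_iff.mp (e ▸ mem_top b : b ∈ center L) a⟩⟩
  have hcore : Cfsg.pPrimeCore 2 L = ⊥ :=
    (inferInstance : (Cfsg.pPrimeCore 2 L).Normal).eq_bot_or_eq_top.resolve_right fun e => by
      have hcop := Cores.coprime_card_pPrimeCore (p := 2) (G := L)
      rw [e, card_top] at hcop
      have hdvd := (P : Subgroup L).card_subgroup_dvd_card
      obtain ⟨i, hi⟩ := IsPGroup.iff_card.mp P.isPGroup'
      rw [hi] at hdvd h2
      have := Nat.eq_one_of_dvd_coprimes (hcop.symm.pow_left i) dvd_rfl hdvd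
      omega
  obtain ⟨j, -, hj⟩ := (Nat.dvd_prime_pow Nat.prime_two).mp (orderOf_dvd_of_pow_eq_one hk)
  obtain ⟨g, hg⟩ := S4593.result hZ hcore P hcomm α ⟨j, hj⟩ hfix
  exact ⟨g, MulEquiv.ext fun x => (hg x).symm⟩

/-- Odd outer automorphism group. -/
theorem innerTwoHyp_of_out_odd {L : Type*} [Group L] [Finite L] (h : Odd (Nat.card (Cfsg.Out L))) :
    InnerTwoHyp L := fun _ _ _ hk _ _ => mem_of_index_odd (Cfsg.Inn L) h hk

/-- **The five types.** -/
theorem innerTwoHyp_of_list {L : Type*} [Group L] [Finite L] [IsSimpleGroup L]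
    (hna : ¬ IsMulCommutative L)
    (h : (∃ (n : ℕ) (F : Type) (_ : Field F) (_ : Fintype F), 2 ≤ n ∧ Fintype.card F = 2 ^ n ∧
          Nonempty (L ≃* Matrix.ProjectiveSpecialLinearGroup (Fin 2) F)) ∨
      (∃ (m : ℕ) (F : Type) (_ : Field F) (_ : Fintype F), 1 ≤ m ∧ Fintype.card F = 2 ^ (2 * m + 1) ∧
          Nonempty (L ≃* ↥(Cfsg.Lie.Sz F (2 ^ (m + 1))))) ∨
      (∃ (n : ℕ) (F : Type) (_ : Field F) (_ : Fintype F), 2 ≤ n ∧ Fintype.card F = 4 ^ n ∧
          Nonempty (L ≃* Cfsg.PSU 3 F (2 ^ n))) ∨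
      (∃ (F : Type) (_ : Field F) (_ : Fintype F),
          (Fintype.card F % 8 = 3 ∨ Fintype.card F % 8 = 5) ∧ 5 < Fintype.card F ∧
          Nonempty (L ≃* Matrix.ProjectiveSpecialLinearGroup (Fin 2) F)) ∨
      Cfsg.IsJ1 L) : InnerTwoHyp L := by
  rcases h with ⟨n, F, _, _, hn, hc, ⟨e⟩⟩ | ⟨m, F, _, _, hm, hc, ⟨e⟩⟩ | ⟨n, F, _, _, hn, hc, ⟨e⟩⟩ |
    ⟨F, _, _, hq, -, ⟨e⟩⟩ | hJ
  · haveI := H58.CI.charP_two_of_pow hc
    have h3 : 3 < Fintype.card F := by
      rw [hc]; exact lt_of_lt_of_le (by norm_num) (Nat.pow_le_pow_right two_pos hn)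
    refine innerTwoHyp_of_elementary hna fun P => ?_
    obtain ⟨hsq, h4, -⟩ :=
      H35.JT.psl_sylow_char_two h3 (P.mapSurjective (f := e.toMonoidHom) e.surjective)
    refine ⟨fun p hp => e.injective ?_, ?_,
      Or.inr (H58.CI.one_class_congr e H35.JT.psl_one_class)⟩
    · rw [map_mul, map_one]
      exact hsq _ ⟨p, hp, rfl⟩
    · have hm : Nat.card ↥((P : Subgroup L).map e.toMonoidHom) = Nat.card ↥(P : Subgroup L) :=
        card_map_of_injective e.injective
      exact le_trans (by norm_num) (hm ▸ (h4 : 4 ≤ Nat.card ↥((P : Subgroup L).map e.toMonoidHom)))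
  · refine innerTwoHyp_congr e (innerTwoHyp_of_out_odd ?_)
    rw [S2126.result hm hc]
    exact odd_two_mul_add_one m
  · have hc' : Fintype.card F = (2 ^ n) ^ 2 := by
      rw [hc, ← pow_mul, show (4 : ℕ) = 2 ^ 2 from rfl, ← pow_mul, mul_comm]
    haveI := H58.CI.charP_two_of_pow (F := F) (n := n * 2) (by rw [hc', pow_mul])
    exact innerTwoHyp_congr e fun P α k hk hP hN => inn_of_trivial_on_quotient hc'
      (le_trans (by norm_num) (Nat.pow_le_pow_right two_pos hn)) P α hk hP hN
  · refine innerTwoHyp_of_elementary hna fun P => ?_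
    have hK := S0276.result rfl hq (P.mapSurjective (f := e.toMonoidHom) e.surjective)
    have h4 : Nat.card (P : Subgroup L) = 4 :=
      (card_map_of_injective e.injective).symm.trans
        (hK.card_four : Nat.card ↥((P : Subgroup L).map e.toMonoidHom) = 4)
    refine ⟨fun p hp => e.injective ?_, by omega, Or.inl (by omega)⟩
    rw [map_mul, map_one]
    haveI : IsKleinFour ↥((P : Subgroup L).map e.toMonoidHom) := hK
    exact congrArg Subtype.val (IsKleinFour.mul_self
      (⟨e p, mem_map_of_mem e.toMonoidHom hp⟩ : ↥((P : Subgroup L).map e.toMonoidHom)))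
  · refine innerTwoHyp_of_elementary hna fun P => ?_
    have h8 := Coprime.J1.ByOrder.card_sylow_two hJ.2 P
    exact ⟨(Coprime.J1.ByOrder.Layer.two_group hJ.2 P.isPGroup').2.1, by omega, Or.inl (by omega)⟩

/-- **Odd index.** -/
theorem odd_index_of_unique {X : Type u} [Group X] [Finite X] {L : Subgroup X} [L.Normal]
    (hC : centralizer (L : Set X) = ⊥) (hL : InnerTwoHyp ↥L)
    (hu : ∀ S T : Sylow 2 X, (S : Subgroup X) ⊓ L = (T : Subgroup X) ⊓ L → S = T) : Odd L.index := by
  obtain ⟨P⟩ : Nonempty (Sylow 2 ↥L) := inferInstance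
  obtain ⟨S, hS⟩ := (P.isPGroup'.map L.subtype).exists_le_sylow
  have hSP : (S : Subgroup X).subgroupOf L = P :=
    P.is_maximal' S.isPGroup'.comap_subtype fun x hx => hS ⟨x, hx, rfl⟩
  suffices hle : (S : Subgroup X) ≤ L by
    rw [← Nat.not_even_iff_odd]
    exact fun he => S.not_dvd_index (he.two_dvd.trans (index_dvd_of_le hle))
  intro s hs
  -- the normaliser of `S ⊓ L` normalises `S`
  have hnorm : ∀ n : ↥L, n ∈ normalizer ((P : Subgroup ↥L) : Set ↥L) →
      (n : X) ∈ normalizer ((S : Subgroup X) : Set X) := by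
    intro n hn
    refine Sylow.smul_eq_iff_mem_normalizer.mp (hu _ _ ?_)
    ext y
    rw [Sylow.coe_subgroup_smul, mem_inf, mem_inf, mem_pointwise_smul_iff_inv_smul_mem,
      ← map_inv, MulAut.smul_def, MulAut.conj_apply, inv_inv]
    have key : ∀ z : ↥L, (z : X) ∈ (S : Subgroup X) ↔ z ∈ (P : Subgroup ↥L) := fun z => by
      rw [← hSP, mem_subgroupOf]
    constructor
    · rintro ⟨h1, hy⟩
      refine ⟨?_, hy⟩
      have h2 := (key (n⁻¹ * ⟨y, hy⟩ * n)).mp h1
      have h3 := (key _).mpr ((mem_normalizer_iff.mp hn _).mp h2)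
      have h4 : ((n * (n⁻¹ * ⟨y, hy⟩ * n) * n⁻¹ : ↥L) : X) = y := by push_cast; group
      rwa [h4] at h3
    · rintro ⟨h1, hy⟩
      refine ⟨?_, hy⟩
      have h2 := (mem_normalizer_iff.mp (inv_mem hn) _).mp ((key ⟨y, hy⟩).mp h1)
      rw [inv_inv] at h2
      exact (key (n⁻¹ * ⟨y, hy⟩ * n)).mpr h2
  obtain ⟨k, hk⟩ := S.isPGroup' ⟨s, hs⟩
  have hk' : s ^ 2 ^ k = 1 := congrArg Subtype.val hk
  obtain ⟨g, hg⟩ := hL P (MulAut.conjNormal s) k (by rw [← map_pow, hk', map_one]) (by
    refine eq_of_le_of_card_ge ?_ (card_map_of_injective (MulEquiv.injective _)).ge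
    rintro _ ⟨x, hx, rfl⟩
    replace hx : x ∈ (S : Subgroup X).subgroupOf L := hSP.symm ▸ hx
    show _ ∈ (P : Subgroup ↥L)
    rw [← hSP]
    show ((MulAut.conjNormal s x : ↥L) : X) ∈ (S : Subgroup X)
    rw [mem_subgroupOf] at hx
    rw [MulAut.conjNormal_apply]
    exact mul_mem (mul_mem hs hx) (inv_mem hs)) (fun n hn => by
    rw [← hSP, mem_subgroupOf]
    push_cast
    rw [MulAut.conjNormal_apply, show s * (n : X) * s⁻¹ * (n : X)⁻¹ = s * ((n : X) * s⁻¹ * (n : X)⁻¹)
      by group]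
    exact mul_mem hs ((mem_normalizer_iff.mp (hnorm n hn) _).mp (inv_mem hs)))
  have hc : (g : X)⁻¹ * s ∈ centralizer (L : Set X) := mem_centralizer_iff.mpr fun l hl => by
    have h1 : (g : X) * l * (g : X)⁻¹ = s * l * s⁻¹ := by
      have := congrArg (fun z : ↥L => (z : X)) (DFunLike.congr_fun hg ⟨l, hl⟩)
      simpa [MulAut.conjNormal_apply] using this
    calc l * ((g : X)⁻¹ * s) = (g : X)⁻¹ * ((g : X) * l * (g : X)⁻¹) * s := by group
      _ = (g : X)⁻¹ * s * l := by rw [h1]; group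
  rw [hC, mem_bot, inv_mul_eq_one] at hc
  exact hc ▸ g.2

end Cfsg.Agent.H74.CycInt
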