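import Cfsg.Agent.H74.CycInt.InnerTwo
import Cfsg.Agent.H24.CyclicIntersect
import Cfsg.Agent.H86.ClassSizes.CC
import Cfsg.Agent.H44.PerfectSolvable
import Cfsg.Agent.S0205
import Cfsg.Agent.S0542

/-!
# Cyclic Sylow 2-intersections: the reduction to simple groups

Modulo its solvable radical such a group is almost simple, and its socle, which inherits the
hypothesis, has odd index.
-/

set_option autoImplicit false
set_option linter.style.haveILetI false
set_option linter.unusedSectionVars false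

namespace Cfsg.Agent.H74.CycInt

open Subgroup
open Cfsg.Agent.H24.CycInt (CI)

universe u

local instance : Fact (Nat.Prime 2) := ⟨Nat.prime_two⟩

/-- The list: `L₂(2ⁿ)`, `Sz`, `U₃(2ⁿ)`, `L₂(q)` with `q ≡ 3, 5 (mod 8)`, `J₁`. -/
def FiveTypes (L : Type u) [Group L] : Prop :=
  (∃ (n : ℕ) (F : Type) (_ : Field F) (_ : Fintype F), 2 ≤ n ∧ Fintype.card F = 2 ^ n ∧
      Nonempty (L ≃* Matrix.ProjectiveSpecialLinearGroup (Fin 2) F)) ∨
  (∃ (m : ℕ) (F : Type) (_ : Field F) (_ : Fintype F), 1 ≤ m ∧ Fintype.card F = 2 ^ (2 * m + 1) ∧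
      Nonempty (L ≃* ↥(Cfsg.Lie.Sz F (2 ^ (m + 1))))) ∨
  (∃ (n : ℕ) (F : Type) (_ : Field F) (_ : Fintype F), 2 ≤ n ∧ Fintype.card F = 4 ^ n ∧
      Nonempty (L ≃* Cfsg.PSU 3 F (2 ^ n))) ∨
  (∃ (F : Type) (_ : Field F) (_ : Fintype F),
      (Fintype.card F % 8 = 3 ∨ Fintype.card F % 8 = 5) ∧ 5 < Fintype.card F ∧
      Nonempty (L ≃* Matrix.ProjectiveSpecialLinearGroup (Fin 2) F)) ∨
  Cfsg.IsJ1 L

/-- The statement for simple groups (S3185). -/
def SimpleCase : Prop :=
  ∀ (L : Type u) [Group L] [Finite L] [IsSimpleGroup L], ¬ IsMulCommutative L →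
    (∀ S T : Sylow 2 L, S ≠ T →
      ((S : Subgroup L) ⊓ (T : Subgroup L) = ⊥ ∨
        ∃ z ∈ (S : Subgroup L) ⊓ (T : Subgroup L), orderOf z = 2 ∧
          ∃ U : Sylow 2 L, z ∈ (Subgroup.center ↥(U : Subgroup L)).map (U : Subgroup L).subtype) →
      Cfsg.PRankLE 2 1 ↥((S : Subgroup L) ⊓ (T : Subgroup L))) →
    FiveTypes L

theorem FiveTypes.congr {L M : Type u} [Group L] [Group M] (e : L ≃* M) (h : FiveTypes L) :
    FiveTypes M := by
  rcases h with ⟨n, F, i1, i2, h1, h2, ⟨f⟩⟩ | ⟨m, F, i1, i2, h1, h2, ⟨f⟩⟩ |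
    ⟨n, F, i1, i2, h1, h2, ⟨f⟩⟩ | ⟨F, i1, i2, h1, h2, ⟨f⟩⟩ | ⟨hs, hc⟩
  · exact Or.inl ⟨n, F, i1, i2, h1, h2, ⟨e.symm.trans f⟩⟩
  · exact Or.inr (Or.inl ⟨m, F, i1, i2, h1, h2, ⟨e.symm.trans f⟩⟩)
  · exact Or.inr (Or.inr (Or.inl ⟨n, F, i1, i2, h1, h2, ⟨e.symm.trans f⟩⟩))
  · exact Or.inr (Or.inr (Or.inr (Or.inl ⟨F, i1, i2, h1, h2, ⟨e.symm.trans f⟩⟩)))
  · haveI := hs
    haveI : Nontrivial M := e.toEquiv.symm.nontrivial
    exact Or.inr (Or.inr (Or.inr (Or.inr
      ⟨IsSimpleGroup.isSimpleGroup_of_surjective e.toMonoidHom e.surjective,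
        (Nat.card_congr e.toEquiv).symm.trans hc⟩)))

/-- A cyclic group has `2`-rank at most one. -/
theorem prankLE_of_isCyclic {C : Type*} [Group C] [Finite C] (h : IsCyclic C) :
    Cfsg.PRankLE 2 1 C := by
  classical
  intro A _ hA
  haveI := h
  haveI : Fintype ↥A := Fintype.ofFinite _
  have h1 : (Finset.univ.filter fun a : ↥A => a ^ 2 = 1) = Finset.univ :=
    Finset.filter_true_of_mem fun a _ => Subtype.ext (hA a a.2)
  have h2 := IsCyclic.card_pow_eq_one_le (α := ↥A) two_pos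
  rw [h1, Finset.card_univ] at h2
  rwa [Nat.card_eq_fintype_card, pow_one]

variable {X : Type u} [Group X] [Finite X]

theorem isSolvable_of_odd {K : Type u} [Group K] [Finite K] (h : Odd (Nat.card K)) :
    Group.IsSolvable K := S0205.result h

/-- A subgroup centralising a nonsolvable normal subgroup is solvable. -/
theorem isSolvable_of_commute (hci : CI X) (M K : Subgroup X) [M.Normal]
    (hM : ¬ Group.IsSolvable ↥M) (hcomm : ∀ m ∈ M, ∀ k ∈ K, Commute m k) :
    Group.IsSolvable ↥K := by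
  obtain ⟨P, P', hne⟩ := H24.CycInt.exists_ne_sylow (G := ↥M) (fun H _ _ h => isSolvable_of_odd h) hM
  obtain ⟨Q⟩ : Nonempty (Sylow 2 ↥K) := inferInstance
  refine H86.ClassSizes.isSolvable_of_cyclic_two Q ?_
  set Q' := (Q : Subgroup ↥K).map K.subtype with hQ'
  have hbig : ∀ R : Sylow 2 ↥M, ∃ S : Sylow 2 X, (S : Subgroup X).subgroupOf M = R ∧
      Q' ≤ (S : Subgroup X) := by
    intro R
    have h2 : IsPGroup 2 ↥((R : Subgroup ↥M).map M.subtype ⊔ Q') := by
      refine (R.isPGroup'.map _).to_sup_of_normal_left' (Q.isPGroup'.map _) fun k hk =>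
        centralizer_le_normalizer _ (mem_centralizer_iff.mpr fun m hm => ?_)
      exact (hcomm m (map_subtype_le _ hm) k (map_subtype_le _ hk)).eq
    obtain ⟨S, hS⟩ := h2.exists_le_sylow
    refine ⟨S, R.is_maximal' S.isPGroup'.comap_subtype fun x hx =>
      hS (mem_sup_left ⟨x, hx, rfl⟩), le_sup_right.trans hS⟩
  obtain ⟨S, hS, hSQ⟩ := hbig P
  obtain ⟨S', hS', hSQ'⟩ := hbig P'
  have hSS : S ≠ S' := fun e => hne (Sylow.ext (by rw [← hS, ← hS', e]))
  haveI : IsCyclic ↥Q' := H24.CycInt.isCyclic_of_le (le_inf hSQ hSQ') (hci S S' hSS)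
  exact isCyclic_of_surjective _
    ((Q : Subgroup ↥K).equivMapOfInjective _ K.subtype_injective).symm.surjective

/-- **The socle.** -/
theorem exists_socle (hci : CI X) (hns : ¬ Group.IsSolvable X)
    (hrad : ∀ N : Subgroup X, N.Normal → Group.IsSolvable ↥N → N = ⊥) :
    ∃ L : Subgroup X, L.Normal ∧ IsSimpleGroup ↥L ∧ ¬ IsMulCommutative ↥L ∧
      centralizer (L : Set X) = ⊥ := by
  classical
  haveI : Nontrivial X := by
    by_contra hc
    rw [not_nontrivial_iff_subsingleton] at hc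
    exact hns inferInstance
  obtain ⟨L, ⟨hLn, hL1⟩, hLmin⟩ : ∃ L : Subgroup X, (L.Normal ∧ L ≠ ⊥) ∧
      ∀ K : Subgroup X, K.Normal → K ≠ ⊥ → Nat.card L ≤ Nat.card K := by
    have hex : ∃ m, ∃ K : Subgroup X, (K.Normal ∧ K ≠ ⊥) ∧ Nat.card K = m :=
      ⟨_, ⊤, ⟨inferInstance, bot_ne_top.symm⟩, rfl⟩
    obtain ⟨L, hL, hc⟩ := Nat.find_spec hex
    exact ⟨L, hL, fun K hK hK1 => hc ▸ Nat.find_min' hex ⟨K, ⟨hK, hK1⟩, rfl⟩⟩
  haveI := hLn
  have hLns : ¬ Group.IsSolvable ↥L := fun h => hL1 (hrad L hLn h)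
  haveI : Nontrivial ↥L := (nontrivial_iff_ne_bot L).mpr hL1
  obtain ⟨M, ⟨hMn, hM1⟩, hMmin⟩ : ∃ M : Subgroup ↥L, (M.Normal ∧ M ≠ ⊥) ∧
      ∀ K : Subgroup ↥L, K.Normal → K ≠ ⊥ → Nat.card M ≤ Nat.card K := by
    have hex : ∃ m, ∃ K : Subgroup ↥L, (K.Normal ∧ K ≠ ⊥) ∧ Nat.card K = m :=
      ⟨_, ⊤, ⟨inferInstance, bot_ne_top.symm⟩, rfl⟩
    obtain ⟨M, hM, hc⟩ := Nat.find_spec hex
    exact ⟨M, hM, fun K hK hK1 => hc ▸ Nat.find_min' hex ⟨K, ⟨hK, hK1⟩, rfl⟩⟩
  haveI := hMn
  let cj : X → Subgroup ↥L := fun g => M.map (MulAut.conjNormal (H := L) g).toMonoidHom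
  haveI hcjn : ∀ g, (cj g).Normal := fun g => hMn.map _ (MulEquiv.surjective _)
  have hMtop : M = ⊤ := by
    by_contra hMne
    -- `M` is not solvable
    have hMns : ¬ Group.IsSolvable ↥M := by
      intro hsol
      haveI := hsol
      have hJ : Group.IsSolvable ↥(⨆ g, cj g) := H44.isSolvable_iSup cj hcjn fun g =>
        Group.isSolvable_of_surjective
          ((MulAut.conjNormal (H := L) g).toMonoidHom.subgroupMap_surjective M)
      haveI := hJ
      set J := (⨆ g, cj g).map L.subtype with hJdef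
      have hJn : J.Normal := by
        refine ⟨fun z hz g => ?_⟩
        obtain ⟨w, hw, rfl⟩ := hz
        refine ⟨MulAut.conjNormal g w, ?_, MulAut.conjNormal_apply g w⟩
        have h1 : (⨆ h, cj h).map (MulAut.conjNormal (H := L) g).toMonoidHom ≤ ⨆ h, cj h := by
          rw [Subgroup.map_iSup]
          refine iSup_le fun h => le_iSup_of_le (g * h) (le_of_eq ?_)
          simp only [cj, map_map, map_mul]
          rfl
        exact h1 ⟨w, hw, rfl⟩
      have hJsol : Group.IsSolvable ↥J :=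
        Group.isSolvable_of_surjective (L.subtype.subgroupMap_surjective _)
      have hJ1 := hrad J hJn hJsol
      rw [hJdef, map_eq_bot_iff_of_injective _ L.subtype_injective] at hJ1
      refine hM1 (le_bot_iff.mp (le_trans ?_ hJ1.le))
      refine le_iSup_of_le 1 (le_of_eq ?_)
      simp only [cj, map_one]
      exact (map_id M).symm
    -- some conjugate of `M` differs from `M`
    obtain ⟨g, hg⟩ : ∃ g, cj g ≠ M := by
      by_contra hall
      push Not at hall
      have hn : (M.map L.subtype).Normal := ⟨fun z hz g => by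
        obtain ⟨w, hw, rfl⟩ := hz
        exact ⟨MulAut.conjNormal g w, (hall g).le ⟨w, hw, rfl⟩, MulAut.conjNormal_apply g w⟩⟩
      have h1 := hLmin _ hn fun e => hM1 ((map_eq_bot_iff_of_injective _ L.subtype_injective).mp e)
      rw [card_map_of_injective L.subtype_injective] at h1
      exact hMne (eq_top_of_le_card _ h1)
    have hcard : Nat.card ↥(cj g) = Nat.card ↥M := card_map_of_injective (MulEquiv.injective _)
    have hinf : cj g ⊓ M = ⊥ := by
      by_contra hne
      have h1 := hMmin _ inferInstance hne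
      have h2 : cj g ⊓ M = M := eq_of_le_of_card_ge inf_le_right h1
      exact hg (eq_of_le_of_card_ge (h2 ▸ inf_le_left) hcard.le).symm
    have hsol := isSolvable_of_commute (hci.subgroup L) M (cj g) hMns fun m hm k hk =>
      (commute_of_normal_of_disjoint (cj g) M inferInstance inferInstance
        (disjoint_iff.mpr hinf) k m hk hm).symm
    haveI : Group.IsSolvable ↥(M.map (MulAut.conjNormal (H := L) g).toMonoidHom) := hsol
    exact hMns (Group.isSolvable_of_surjective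
      (f := (M.equivMapOfInjective (MulAut.conjNormal (H := L) g).toMonoidHom
        (MulEquiv.injective _)).symm.toMonoidHom)
      (MulEquiv.surjective _))
  refine ⟨L, hLn, ?_, ?_, ?_⟩
  · refine { eq_bot_or_eq_top_of_normal := fun K hK => ?_ }
    by_cases hK1 : K = ⊥
    · exact Or.inl hK1
    · right
      have h1 := hMmin K hK hK1
      rw [hMtop, card_top] at h1
      exact eq_top_of_le_card _ h1
  · intro hc
    exact hLns (Group.isSolvable_of_comm fun a b => hc.is_comm.comm a b)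
  · exact hrad _ inferInstance (isSolvable_of_commute hci L _ hLns fun l hl k hk =>
      show l * k = k * l from mem_centralizer_iff.mp hk l hl)

/-- **S3308 from S3185.** -/
theorem structure_of_simpleCase (hS : SimpleCase.{u}) {G : Type u} [Group G] [Finite G]
    (hns : ¬ Group.IsSolvable G)
    (hC : ∀ S T : Sylow 2 G, S ≠ T → IsCyclic ↥((S : Subgroup G) ⊓ (T : Subgroup G)))
    (R : Subgroup G) [R.Normal] (hR : Group.IsSolvable ↥R)
    (hRmax : ∀ N : Subgroup G, N.Normal → Group.IsSolvable ↥N → N ≤ R) :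
    ∃ (G₁ : Subgroup G) (_ : G₁.Normal) (_ : (R.subgroupOf G₁).Normal), Odd G₁.index ∧ R ≤ G₁ ∧
      IsSimpleGroup (↥G₁ ⧸ R.subgroupOf G₁) ∧ ¬ IsMulCommutative (↥G₁ ⧸ R.subgroupOf G₁) ∧
      FiveTypes (↥G₁ ⧸ R.subgroupOf G₁) := by
  classical
  haveI := hR
  set π := QuotientGroup.mk' R with hπ
  have hπs : Function.Surjective π := QuotientGroup.mk'_surjective R
  have hci : CI (G ⧸ R) := CI.quotient hC R
  have hns' : ¬ Group.IsSolvable (G ⧸ R) := fun h =>
    hns (H24.CycInt.isSolvable_of_solvable_quotient R)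
  have hrad : ∀ N : Subgroup (G ⧸ R), N.Normal → Group.IsSolvable ↥N → N = ⊥ := by
    intro N hN hsol
    haveI := hN
    haveI := hsol
    have h1 : Group.IsSolvable ↥(N.comap π) := by
      haveI : Group.IsSolvable ↥(R.subgroupOf (N.comap π)) :=
        Group.isSolvable_of_isSolvable_injective
          (f := ((N.comap π).subtype.comp (R.subgroupOf (N.comap π)).subtype).codRestrict R fun x => x.2)
          fun a b e => Subtype.ext (Subtype.ext (congrArg Subtype.val e : _))
      have hker : (π.subgroupComap N).ker = R.subgroupOf (N.comap π) := by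
        ext x
        rw [MonoidHom.mem_ker, mem_subgroupOf, ← QuotientGroup.eq_one_iff, Subtype.ext_iff]
        rfl
      exact Group.isSolvable_of_ker_le_range (R.subgroupOf (N.comap π)).subtype (π.subgroupComap N)
        (by rw [hker, range_subtype])
    have h2 := hRmax _ inferInstance h1
    rw [eq_bot_iff]
    intro z hz
    obtain ⟨y, rfl⟩ := hπs z
    rw [mem_bot, hπ, QuotientGroup.mk'_apply, QuotientGroup.eq_one_iff]
    exact h2 (mem_comap.mpr hz)
  obtain ⟨L, hLn, hLs, hLna, hLC⟩ := exists_socle hci hns' hrad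
  haveI := hLn
  haveI := hLs
  have hLns : ¬ Group.IsSolvable ↥L := fun h => hLna (by
    haveI := h
    exact ⟨⟨IsSimpleGroup.comm_iff_isSolvable.mpr h⟩⟩)
  have hfive : FiveTypes ↥L := hS ↥L hLna fun S T hST _ =>
    prankLE_of_isCyclic (hci.subgroup L S T hST)
  have hodd : Odd L.index := odd_index_of_unique hLC (innerTwoHyp_of_list hLna hfive) fun S T h => by
    by_contra hne
    obtain ⟨Q, hQ⟩ := S0542.result 2 L hLn.isSubnormal S
    have hcy : IsCyclic ↥((S : Subgroup (G ⧸ R)) ⊓ L) :=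
      H24.CycInt.isCyclic_of_le (le_inf inf_le_left (h.le.trans inf_le_left)) (hci S T hne)
    refine hLns (H86.ClassSizes.isSolvable_of_cyclic_two Q ?_)
    rw [hQ]
    haveI : IsCyclic ↥(((S : Subgroup (G ⧸ R)).subgroupOf L).map L.subtype) := by
      rw [subgroupOf_map_subtype]; exact hcy
    exact isCyclic_of_surjective _
      (((S : Subgroup (G ⧸ R)).subgroupOf L).equivMapOfInjective _
        L.subtype_injective).symm.surjective
  set G₁ := L.comap π with hG₁
  have hRG : R ≤ G₁ := fun r hr => by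
    show π r ∈ L
    rw [hπ, QuotientGroup.mk'_apply, (QuotientGroup.eq_one_iff r).mpr hr]
    exact L.one_mem
  set ψ : ↥G₁ →* ↥L := π.subgroupComap L with hψ
  have hψs : Function.Surjective ψ := fun ⟨z, hz⟩ => by
    obtain ⟨y, rfl⟩ := hπs z
    exact ⟨⟨y, hz⟩, rfl⟩
  have hker : ψ.ker = R.subgroupOf G₁ := by
    ext x
    rw [MonoidHom.mem_ker, mem_subgroupOf, ← QuotientGroup.eq_one_iff, Subtype.ext_iff]
    rfl
  haveI hRn : (R.subgroupOf G₁).Normal := normal_subgroupOf
  let e : ↥G₁ ⧸ R.subgroupOf G₁ ≃* ↥L :=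
    (QuotientGroup.quotientMulEquivOfEq hker.symm).trans
      (QuotientGroup.quotientKerEquivOfSurjective ψ hψs)
  haveI : Nontrivial (↥G₁ ⧸ R.subgroupOf G₁) := e.toEquiv.nontrivial
  refine ⟨G₁, inferInstance, hRn, ?_, hRG, ?_, ?_, hfive.congr e.symm⟩
  · rwa [hG₁, index_comap_of_surjective _ hπs]
  · exact IsSimpleGroup.isSimpleGroup_of_surjective e.symm.toMonoidHom e.symm.surjective
  · intro hc
    exact hLna ⟨⟨fun a b => e.symm.injective (by rw [map_mul, map_mul]; exact hc.is_comm.comm _ _)⟩⟩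

end Cfsg.Agent.H74.CycInt
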