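import Cfsg.Agent.Unitary.AutCor

/-!
# Automorphisms of `PSU₃(2^f)` commuting with a Sylow normaliser modulo the Sylow subgroup

An automorphism of `2`-power order that normalises a Sylow `2`-subgroup `P` and is trivial on
`N(P) / P` is inner: it is semilinear, its field part fixes every cube of a torus eigenvalue, so it is diagonal.
-/

set_option autoImplicit false
set_option linter.style.haveILetI false
set_option linter.unusedSectionVars false

namespace Cfsg.Agent.H74.CycInt

open Cfsg Matrix Cfsg.Agent.Unitary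
open scoped Pointwise

/-- An element of `2`-power order has trivial image in a quotient of odd order. -/
theorem mem_of_index_odd {K : Type*} [Group K] [Finite K] (N : Subgroup K) [N.Normal]
    (hodd : Odd N.index) {x : K} {k : ℕ} (hx : x ^ 2 ^ k = 1) : x ∈ N := by
  rw [← QuotientGroup.eq_one_iff, ← orderOf_eq_one_iff]
  refine Nat.eq_one_of_dvd_coprimes ((Nat.coprime_two_left.2 hodd).pow_left k)
    (orderOf_dvd_of_pow_eq_one ?_) (orderOf_dvd_natCard _)
  rw [← QuotientGroup.mk_pow, hx, QuotientGroup.mk_one]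

/-- A field automorphism fixing all cubes of `GF(q²)`, `q ≥ 4`, is trivial. -/
theorem eq_refl_of_cube {F : Type*} [Field F] [Fintype F] {q : ℕ} (hF : Fintype.card F = q ^ 2)
    (h4 : 4 ≤ q) (σ : F ≃+* F) (hcube : ∀ t : F, σ (t ^ 3) = t ^ 3) (x : F) : σ x = x := by
  classical
  by_contra hx
  set K := {y : F // σ y = y} with hK
  -- `K × K` embeds in `F`
  have hinj : Function.Injective fun p : K × K => p.1.1 + p.2.1 * x := by
    rintro ⟨⟨a, ha⟩, b, hb⟩ ⟨⟨c, hc⟩, d, hd⟩ e
    change a + b * x = c + d * x at e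
    obtain rfl : b = d := by
      by_contra hbd
      have hne : b - d ≠ 0 := sub_ne_zero.mpr hbd
      have hx' : x = (c - a) / (b - d) := by
        rw [eq_div_iff hne]; linear_combination e
      exact hx (by rw [hx', map_div₀, map_sub, map_sub, ha, hb, hc, hd])
    obtain rfl : a = c := add_right_cancel e
    rfl
  have h1 := Nat.card_le_card_of_injective _ hinj
  rw [Nat.card_prod, Nat.card_eq_fintype_card (α := F), hF, pow_two] at h1
  have hKq : Nat.card K ≤ q := Nat.mul_self_le_mul_self_iff.mp h1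
  -- but `K` contains the cubes
  have h2 : Nat.card (powMonoidHom 3 : Fˣ →* Fˣ).range + 1 ≤ Nat.card K := by
    let f : Option (powMonoidHom 3 : Fˣ →* Fˣ).range → K := fun o => match o with
      | none => ⟨0, map_zero σ⟩
      | some u => ⟨((u : Fˣ) : F), by
          obtain ⟨t, ht⟩ := u.2
          rw [← ht, powMonoidHom_apply, Units.val_pow_eq_pow_val]
          exact hcube t⟩
    have hf : Function.Injective f := by
      rintro (_ | a) (_ | b) e
      · rfl
      · exact absurd (congrArg Subtype.val e).symm (b : Fˣ).ne_zero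
      · exact absurd (congrArg Subtype.val e) (a : Fˣ).ne_zero
      · exact congrArg some (Subtype.ext (Units.ext (congrArg Subtype.val e : _)))
    have := Nat.card_le_card_of_injective f hf
    rwa [Finite.card_option] at this
  have h3 := Subgroup.card_mul_index (powMonoidHom 3 : Fˣ →* Fˣ).ker
  rw [Subgroup.index_ker, IsCyclic.card_powMonoidHom_ker, card_units hF] at h3
  have h5 : (q + 1) * (q - 1) ≤ 3 * Nat.card (powMonoidHom 3 : Fˣ →* Fˣ).range :=
    le_trans h3.ge (Nat.mul_le_mul_right _ (Nat.le_of_dvd (by norm_num) (Nat.gcd_dvd_right _ _)))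
  have h6 : (q + 1) * (q - 1) ≤ 3 * (q - 1) := le_trans h5 (Nat.mul_le_mul_left 3 (by omega))
  have h7 := Nat.le_of_mul_le_mul_right h6 (by omega : 0 < q - 1)
  omega

variable {F : Type*} [Field F] [Fintype F] {q : ℕ}

/-- **`PSU₃(2^f)`.** -/
theorem inn_of_trivial_on_quotient (hF : Fintype.card F = q ^ 2) [CharP F 2] (h4 : 4 ≤ q)
    (P : Sylow 2 (PSU 3 F q))
    (α : MulAut (PSU 3 F q)) {k : ℕ} (hk : α ^ 2 ^ k = 1)
    (hαP : (P : Subgroup (PSU 3 F q)).map α.toMonoidHom = P)
    (hαN : ∀ n ∈ Subgroup.normalizer ((P : Subgroup (PSU 3 F q)) : Set (PSU 3 F q)),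
      α n * n⁻¹ ∈ (P : Subgroup (PSU 3 F q))) :
    α ∈ Cfsg.Inn (PSU 3 F q) := by
  classical
  haveI : Fact (Nat.Prime 2) := ⟨Nat.prime_two⟩
  have h32 : ¬ (3 = 3 ∧ q = 2) := by omega
  have hn : 3 ≤ 3 := le_rfl
  -- a point `L` whose root group is the centre of `P`
  obtain ⟨L₀, U₀, hU₀⟩ := exists_sylow_zc (n := 3) hF hn (p := 2)
  obtain ⟨U, rfl⟩ := Sylow.mapSurjective_surjective
    (toPSU_surjective (F := F) (n := 3) (q := q)) 2 P
  obtain ⟨g₀, rfl⟩ := MulAction.exists_smul_eq (SU 3 F q) U₀ U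
  set U := g₀ • U₀ with hUdef
  set L := g₀ • L₀ with hLdef
  have hzcU : zc (U : Subgroup (SU 3 F q)) = rootSub L := by
    rw [hLdef, ← map_conj_rootSub, ← hU₀, map_zc_equiv, hUdef, Sylow.coe_subgroup_smul]
    rfl
  set P := Sylow.mapSurjective (f := (toPSU : SU 3 F q →* PSU 3 F q)) toPSU_surjective U with hPdef
  have hPU : (P : Subgroup (PSU 3 F q)) = (U : Subgroup (SU 3 F q)).map toPSU :=
    Sylow.coe_mapSurjective _ _
  have hzcP : proot L = zc (P : Subgroup (PSU 3 F q)) := by
    rw [hPU, zc_map_toPSU hF (by omega) U.isPGroup', hzcU]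
    rfl
  obtain ⟨u, hu0, hu, hLu⟩ := exists_isoPt L
  -- `α` is semilinear and fixes `L`
  obtain ⟨g, σ, rfl⟩ := exists_semiAut hF hn h32 α
  have hαL : (proot L).map (semiAut g σ).toMonoidHom = proot L := by
    rw [hzcP, map_zc_equiv, hαP]
  obtain ⟨l, -, hl⟩ : ∃ l : F, l ≠ 0 ∧ semi g σ u = l • u := by
    have h1 := hαL
    rw [hLu, map_semiAut_proot hF g σ hu0 hu] at h1
    have h2 := (smul_isoPt_eq_iff (g := (1 : SU 3 F q)) (semi_ne_zero g σ hu0)
      (by rw [herm_semi, hu, map_zero]) hu0 hu).mp (by rw [one_smul]; exact proot_injective hF hn h1)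
    obtain ⟨l, hl0, hl⟩ := h2
    exact ⟨l, hl0, by rwa [ap_one] at hl⟩
  -- elements of `U` fix `u`
  have hfix : ∀ a ∈ (U : Subgroup (SU 3 F q)), ap a u = u := by
    intro a ha
    have h1 : a • L = L := by
      apply proot_injective hF hn
      have h2 : (zc (U : Subgroup (SU 3 F q))).map (MulAut.conj a).toMonoidHom = zc (U : Subgroup (SU 3 F q)) := by
        rw [map_zc_equiv]
        congr 1
        exact Subgroup.mem_normalizer_iff_map_conj_eq.mp (Subgroup.le_normalizer ha)
      rw [hzcU, map_conj_rootSub] at h2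
      rw [proot, proot, h2]
    rw [hLu] at h1
    obtain ⟨c, -, hc⟩ := (smul_isoPt_eq_iff hu0 hu hu0 hu).mp h1
    obtain ⟨j, hj⟩ := U.isPGroup' ⟨a, ha⟩
    have hj' : a ^ 2 ^ j = 1 := congrArg Subtype.val hj
    have hpow : ∀ m : ℕ, ap (a ^ m) u = c ^ m • u := by
      intro m
      induction m with
      | zero => rw [pow_zero, pow_zero, ap_one, one_smul]
      | succ m ih => rw [pow_succ, ap_mul, hc, ap_smul, ih, smul_smul, pow_succ']
    have h2 := hpow (2 ^ j)
    rw [hj', ap_one] at h2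
    have h3 : c ^ 2 ^ j = 1 := by
      have h4' : (c ^ 2 ^ j - 1) • u = 0 := by rw [sub_smul, one_smul, ← h2, sub_self]
      exact sub_eq_zero.1 ((smul_eq_zero.1 h4').resolve_right hu0)
    have h4' : (c - 1) ^ 2 ^ j = 0 := by rw [sub_pow_char_pow, one_pow, h3, sub_self]
    rw [hc, sub_eq_zero.1 (pow_eq_zero_iff (pow_ne_zero j two_ne_zero) |>.1 h4'), one_smul]
  obtain ⟨H, rfl⟩ := exists_hpair_with hF hu0 hu
  obtain ⟨f, hfon, hspan, hm⟩ := H.exists_ON hF hn
  set d := f ⟨0, hm⟩ with hd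
  have hdd : hermForm 3 F q d d = 1 := by rw [hd, hfon, if_pos rfl]
  obtain ⟨hde, hdf⟩ := H.mem_V.1 (mem_of_span_range hspan ⟨0, hm⟩ : d ∈ H.V)
  have hed := (herm_eq_zero_symm hF).1 hde
  have hfd := (herm_eq_zero_symm hF).1 hdf
  have hq0 : q ≠ 0 := q_ne_zero hF
  have hVd : ∀ w ∈ H.V, ∃ c : F, c • d = w := by
    intro w hw
    have hfr := H.finrank_V hF
    have hr : Set.range f ⊆ {d} := by
      rintro _ ⟨i, rfl⟩
      have hi : i = ⟨0, hm⟩ := Fin.ext (show (i : ℕ) = 0 by have := i.isLt; omega)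
      rw [hi]; rfl
    exact Submodule.mem_span_singleton.1 (Submodule.span_mono hr (hspan.symm ▸ hw))
  -- the radical is the Sylow subgroup
  have hdecw : ∀ x, hermForm 3 F q x H.e = 0 → ∃ y c : F, x = y • H.e + c • d := fun x hx => by
    obtain ⟨c, hc⟩ := hVd _ (H.proj_mem hF x)
    refine ⟨hermForm 3 F q x H.f, c, ?_⟩
    conv_lhs => rw [H.decomp x]
    rw [hx, zero_smul, add_zero, hc]
  have hUle : (U : Subgroup (SU 3 F q)) ≤ unip 3 F q H.e := by
    intro a ha
    refine mem_unip.2 ⟨hfix a ha, fun w hw => ?_⟩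
    have had : hermForm 3 F q (ap a d) H.e = 0 := by
      conv_lhs => rw [← hfix a ha]
      rw [herm_ap, hde]
    obtain ⟨y, c, hyc⟩ := hdecw _ had
    have hpow : ∀ m : ℕ, ∃ z : F, ap (a ^ m) d = z • H.e + c ^ m • d := by
      intro m
      induction m with
      | zero => exact ⟨0, by rw [pow_zero, pow_zero, ap_one, one_smul, zero_smul, zero_add]⟩
      | succ m ih =>
        obtain ⟨z, hz⟩ := ih
        refine ⟨z + c ^ m * y, ?_⟩
        rw [pow_succ', ap_mul, hz, ap_add, ap_smul, ap_smul, hfix a ha, hyc]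
        module
    obtain ⟨j, hj⟩ := U.isPGroup' ⟨a, ha⟩
    have hj' : a ^ 2 ^ j = 1 := congrArg Subtype.val hj
    obtain ⟨z, hz⟩ := hpow (2 ^ j)
    rw [hj', ap_one] at hz
    have h1 : c ^ 2 ^ j = 1 := by
      have h2 := congrArg (fun v => hermForm 3 F q v d) hz
      simp only [herm_add_left, herm_smul_left] at h2
      rw [hdd, hed, mul_zero, zero_add, mul_one] at h2
      exact h2.symm
    have h2 : (c - 1) ^ 2 ^ j = 0 := by rw [sub_pow_char_pow, one_pow, h1, sub_self]
    rw [sub_eq_zero.1 (pow_eq_zero_iff (pow_ne_zero j two_ne_zero) |>.1 h2), one_smul] at hyc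
    obtain ⟨y', c', hw'⟩ := hdecw w hw
    refine ⟨c' * y, ?_⟩
    rw [hw', ap_add, ap_smul, ap_smul, hfix a ha, hyc]
    module
  have hUeq : (U : Subgroup (SU 3 F q)) = unip 3 F q H.e :=
    (U.is_maximal' (isPGroup_unip hF (by omega) H) hUle).symm
  have hcube : ∀ t : F, σ (t ^ 3) = t ^ 3 := by
    intro t
    by_cases ht : t = 0
    · rw [ht, zero_pow (by norm_num), map_zero]
    set a : F := t ^ q * t⁻¹ - 1 with ha
    have hlam : (t ^ q * t⁻¹) * (t ^ q * t⁻¹) ^ q = 1 := by
      rw [mul_pow, inv_pow, pow_q_q hF]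
      field_simp
    have hM : Preserves q (reflM q d a) := preserves_reflM hF (by
      rw [hdd, mul_one, ha, sub_pow_q hF, one_pow]
      linear_combination hlam)
    have hdet : (torM q H t * reflM q d a).det = 1 := by
      rw [det_mul, det_torM hF, det_reflM, hdd, mul_one, ha]
      field_simp
      ring
    let A : SU 3 F q := toSU (preserves_mul (preserves_torM hF H ht) hM) hdet
    have hAe : ap A H.e = t • H.e := by
      have hA : ap A H.e = torM q H t *ᵥ (reflM q d a *ᵥ H.e) := (mulVec_mulVec _ _ _).symm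
      rw [hA, reflM_mulVec, hed, mul_zero, zero_smul, add_zero, torM_mulVec, H.he, H.hef hF]
      module
    have hAP : toPSU A ∈ Subgroup.normalizer ((P : Subgroup (PSU 3 F q)) : Set (PSU 3 F q)) := by
      have hAn : A ∈ Subgroup.normalizer ((U : Subgroup (SU 3 F q)) : Set (SU 3 F q)) := by
        rw [hUeq, Subgroup.mem_normalizer_iff]
        refine fun X => ⟨conj_mem_unip hAe ht, fun hX => ?_⟩
        have hAi : ap A⁻¹ H.e = t⁻¹ • H.e := by
          apply ap_injective A
          rw [ap_ap_inv, ap_smul, hAe, smul_smul, inv_mul_cancel₀ ht, one_smul]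
        have := conj_mem_unip hAi (inv_ne_zero ht) hX
        simpa [mul_assoc] using this
      rw [hPU]
      exact Subgroup.le_normalizer_map toPSU ⟨A, hAn, rfl⟩
    -- compare eigenvalues at `u`
    have hmemP := hαN _ hAP
    rw [semiAut_toPSU, ← map_inv, ← map_mul, hPU] at hmemP
    obtain ⟨b, hb, hbe⟩ := hmemP
    have hzc : b⁻¹ * (semiSU g σ A * A⁻¹) ∈ Subgroup.center (SU 3 F q) := by
      rw [← ker_toPSU, MonoidHom.mem_ker, map_mul, map_inv, hbe, inv_mul_cancel]
    obtain ⟨w, hw⟩ := eq_smul_of_mem_center hF (by omega) hzc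
    -- the scalar is a cube root of unity
    have hw3 : w ^ 3 = 1 := by
      set z := b⁻¹ * (semiSU g σ A * A⁻¹) with hzdef
      have hzm : mat z = w • (1 : Matrix (Fin 3) (Fin 3) F) := by
        refine Matrix.ext_iff_mulVec.2 fun x => ?_
        rw [smul_mulVec, one_mulVec, ← ap_def, hw]
      have hdet : (mat z).det = 1 := (z : Matrix.SpecialLinearGroup (Fin 3) F).2
      rw [hzm, det_smul, det_one, mul_one, Fintype.card_fin] at hdet
      exact hdet
    have hA1 : ap A⁻¹ H.e = t⁻¹ • H.e := by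
      apply ap_injective A
      rw [ap_ap_inv, ap_smul, hAe, smul_smul, inv_mul_cancel₀ ht, one_smul]
    have hSe : ap (semiSU g σ A) H.e = σ t • H.e := by
      have h1 : ap (semiSU g σ A) (semi g σ H.e) = semi g σ (ap A H.e) := ap_semiSU g σ A H.e
      rw [hAe, semi_smul, hl, ap_smul, smul_smul, mul_comm (σ t) l, ← smul_smul] at h1
      have hl0 : l ≠ 0 := fun e => semi_ne_zero g σ hu0 (by rw [hl, e, zero_smul])
      exact smul_right_injective _ hl0 h1
    have hev : t⁻¹ * σ t = w := by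
      have h1 := hw H.e
      rw [ap_mul, ap_mul, hA1, ap_smul, hSe, smul_smul, ap_smul, hfix _ (inv_mem hb)] at h1
      exact smul_left_injective F (H.e_ne hF) h1
    have h1 : σ t = t * w := by rw [← hev, mul_inv_cancel_left₀ ht]
    rw [map_pow, h1, mul_pow, hw3, mul_one]
  obtain rfl : σ = RingEquiv.refl F := RingEquiv.ext (eq_refl_of_cube hF h4 σ hcube)
  -- diagonal automorphisms of `2`-power order are inner
  set K := (diagHom (n := 3) hF).range with hKdef
  have hK : semiAut g (RingEquiv.refl F) ∈ K := ⟨g, rfl⟩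
  have hcK := card_range_diagHom (n := 3) hF hn
  have hI : Nat.card ↥((Cfsg.Inn (PSU 3 F q)).subgroupOf K) = Nat.card (PSU 3 F q) := by
    rw [Nat.card_congr (Subgroup.subgroupOfEquivOfLe (inn_le_diag hF hn)).toEquiv]
    exact (Nat.card_congr (MonoidHom.ofInjective (conj_injective_PSU hF hn)).toEquiv).symm
  have hidx : ((Cfsg.Inn (PSU 3 F q)).subgroupOf K).index = Nat.gcd 3 (q + 1) := by
    have h1 := ((Cfsg.Inn (PSU 3 F q)).subgroupOf K).card_mul_index
    rw [hI, hcK, mul_comm (Nat.gcd 3 (q + 1))] at h1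
    exact Nat.eq_of_mul_eq_mul_left Nat.card_pos h1
  have h := mem_of_index_odd ((Cfsg.Inn (PSU 3 F q)).subgroupOf K)
    (x := ⟨semiAut g (RingEquiv.refl F), hK⟩) (k := k)
    (by rw [hidx]; exact Odd.of_dvd_nat (by decide) (Nat.gcd_dvd_left _ _)) (Subtype.ext hk)
  exact h

end Cfsg.Agent.H74.CycInt
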